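import Groth.Agent.AdicFS.Basic
import Groth.Agent.AdicFS.FlatComplete
import Mathlib.RingTheory.Flat.Basic
import Mathlib.RingTheory.Filtration
import Mathlib.Algebra.Algebra.Subalgebra.Prod

/-!
# A flat algebra with adically formally smooth reduction is adically formally smooth
-/

set_option autoImplicit false
set_option maxHeartbeats 1000000
set_option linter.style.haveILetI false

universe u

open scoped TensorProduct

namespace Groth.Agent.FlatLift16.FlatFS

open Groth.Agent.AdicFS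

theorem eq_zero_of_mem_smul {A M N : Type u} [CommRing A] [AddCommGroup M] [Module A M]
    [AddCommGroup N] [Module A N] [Module.Flat A N] (f : M →ₗ[A] N) (hf : Function.Surjective f)
    (a : Ideal A) (hker : ∀ x ∈ a, ∀ m ∈ LinearMap.ker f, x • m = 0) {z : M}
    (hz : z ∈ (a • ⊤ : Submodule A M)) (hfz : f z = 0) : z = 0 := by
  rw [← FlatComplete.range_mult] at hz
  obtain ⟨s, rfl⟩ := hz
  have hinj : Function.Injective (FlatComplete.mult a N) :=
    (TensorProduct.lid A N).injective.comp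
      (Module.Flat.rTensor_preserves_injective_linearMap _ (Submodule.injective_subtype _))
  have h1 : f.lTensor a s = 0 := hinj (by
    rw [map_zero, ← LinearMap.comp_apply, FlatComplete.mult_natural, LinearMap.comp_apply, hfz])
  have hex := lTensor_exact a (LinearMap.exact_subtype_ker_map f) hf
  obtain ⟨w, rfl⟩ := (hex s).mp h1
  rw [← LinearMap.comp_apply, FlatComplete.mult_natural, LinearMap.comp_apply]
  have h2 : FlatComplete.mult a (LinearMap.ker f) = 0 := TensorProduct.ext' fun x m => by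
    rw [FlatComplete.mult_tmul, LinearMap.zero_apply]
    exact Subtype.ext (hker x x.2 m m.2)
  rw [h2, LinearMap.zero_apply, map_zero]

variable {A B : Type u} [CommRing A] [CommRing B] [IsNoetherianRing B] [Algebra A B] [Module.Flat A B]
  (a : Ideal A) (𝔟 : Ideal B)

/-- A square-zero extension killed by the base ideal which has a linear section on a power of `𝔟`
splits. -/
theorem exists_section
    (h : CAlgX.IsAdicFormallySmooth (A ⧸ a) (B ⧸ a.map (algebraMap A B))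
      (𝔟.map (Ideal.Quotient.mk (a.map (algebraMap A B)))))
    {E : Type u} [CommRing E] [Algebra A E] (π : E →ₐ[A] B) (hπ : Function.Surjective π)
    (hK2 : RingHom.ker π ^ 2 = ⊥) (haK : ∀ x ∈ a, ∀ e ∈ RingHom.ker π, algebraMap A E x * e = 0)
    (k : ℕ) (σ : ↥(𝔟 ^ k) →+ E) (hσπ : ∀ b, π (σ b) = b)
    (hσmul : ∀ (e : E) {x : B} (hx : x ∈ 𝔟 ^ k),
      e * σ ⟨x, hx⟩ = σ ⟨π e * x, Ideal.mul_mem_left _ _ hx⟩) :
    ∃ G' : B →ₐ[A] E, ∀ b, π (G' b) = b := by
  classical
  let K : Ideal E := RingHom.ker π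
  -- Artin–Rees
  obtain ⟨k₀, hk₀⟩ := Ideal.exists_pow_inf_eq_pow_smul 𝔟 (M := B) (a.map (algebraMap A B))
  let N := k₀ + k
  have hAR : ∀ b ∈ 𝔟 ^ N, b ∈ a.map (algebraMap A B) → b ∈ 𝔟 ^ k * a.map (algebraMap A B) := by
    intro b hb hb'
    have h1 : b ∈ (𝔟 ^ k • (𝔟 ^ k₀ • ⊤ ⊓ a.map (algebraMap A B)) : Submodule B B) := by
      have h2 := hk₀ N (Nat.le_add_right _ _)
      rw [show N - k₀ = k from Nat.add_sub_cancel_left _ _] at h2
      rw [← h2]
      exact ⟨by rw [smul_eq_mul, Ideal.mul_top]; exact hb, hb'⟩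
    exact Submodule.smul_mono le_rfl inf_le_right h1
  let aE : Ideal E := a.map (algebraMap A E)
  have haE : ∀ z ∈ aE, π z = 0 → z = 0 := fun z hz hπz => by
    refine eq_zero_of_mem_smul π.toLinearMap hπ a (fun x hx m hm => ?_) ?_ hπz
    · rw [Algebra.smul_def]
      exact haK x hx m hm
    · rw [Ideal.smul_top_eq_map, Submodule.restrictScalars_mem]
      exact hz
  -- lifts of high powers
  let H : Ideal E :=
    { carrier := {e | ∃ hb : π e ∈ 𝔟 ^ k, σ ⟨π e, hb⟩ = e ∧ π e ∈ 𝔟 ^ N}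
      add_mem' := fun {x y} ⟨hx, hx', hx''⟩ ⟨hy, hy', hy''⟩ => by
        refine ⟨by rw [map_add]; exact add_mem hx hy, ?_, by rw [map_add]; exact add_mem hx'' hy''⟩
        conv_rhs => rw [← hx', ← hy', ← map_add]
        exact congrArg σ (Subtype.ext (map_add π x y))
      zero_mem' := by
        refine ⟨by rw [map_zero]; exact zero_mem _, ?_, by rw [map_zero]; exact zero_mem _⟩
        refine (congrArg σ (Subtype.ext (map_zero π))).trans (map_zero σ)
      smul_mem' := fun c x ⟨hx, hx', hx''⟩ => by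
        refine ⟨by rw [smul_eq_mul, map_mul]; exact Ideal.mul_mem_left _ _ hx, ?_,
          by rw [smul_eq_mul, map_mul]; exact Ideal.mul_mem_left _ _ hx''⟩
        conv_rhs => rw [smul_eq_mul, ← hx', hσmul c]
        exact congrArg σ (Subtype.ext (map_mul π c x)) }
  let G : Ideal B :=
    { carrier := {b | ∃ hb : b ∈ 𝔟 ^ k, σ ⟨b, hb⟩ ∈ aE}
      add_mem' := fun {x y} ⟨hx, hx'⟩ ⟨hy, hy'⟩ => by
        refine ⟨add_mem hx hy, ?_⟩
        have := add_mem hx' hy'
        rwa [← map_add] at this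
      zero_mem' := ⟨zero_mem _, by
        rw [show (⟨0, zero_mem _⟩ : ↥(𝔟 ^ k)) = 0 from rfl, map_zero]; exact zero_mem _⟩
      smul_mem' := fun c x ⟨hx, hx'⟩ => by
        obtain ⟨e, rfl⟩ := hπ c
        refine ⟨Ideal.mul_mem_left _ _ hx, ?_⟩
        have := aE.mul_mem_left e hx'
        rwa [hσmul] at this }
  have hG : 𝔟 ^ k * a.map (algebraMap A B) ≤ G := by
    rw [Ideal.mul_le]
    intro x hx y hy
    induction hy using Submodule.span_induction with
    | mem y hy =>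
      obtain ⟨r, hr, rfl⟩ := hy
      refine ⟨Ideal.mul_mem_right _ _ hx, ?_⟩
      have := aE.mul_mem_right (σ ⟨x, hx⟩) (Ideal.mem_map_of_mem (algebraMap A E) hr)
      rw [hσmul] at this
      convert this using 2
      exact Subtype.ext ((mul_comm _ _).trans (congrArg (· * x) (π.commutes r).symm))
    | zero => rw [mul_zero]; exact zero_mem _
    | add y y' _ _ hy hy' => rw [mul_add]; exact add_mem hy hy'
    | smul c y _ hy => rw [smul_eq_mul, mul_left_comm]; exact G.mul_mem_left c hy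
  let M : Ideal E := aE ⊔ H
  have hMK : ∀ z ∈ M, z ∈ K → z = 0 := by
    intro z hz hzK
    obtain ⟨y, hy, h', hh', rfl⟩ := Submodule.mem_sup.mp hz
    obtain ⟨hh, hh₁, hh₂⟩ := hh'
    have h1 : π y + π h' = 0 := by rw [← map_add]; exact hzK
    have h2 : π y ∈ a.map (algebraMap A B) := by
      have := Ideal.mem_map_of_mem π.toRingHom hy
      rw [Ideal.map_map] at this
      rwa [show π.toRingHom.comp (algebraMap A E) = algebraMap A B from π.comp_algebraMap] at this
    have h3 : π h' ∈ a.map (algebraMap A B) := by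
      rw [eq_neg_of_add_eq_zero_right h1]; exact neg_mem h2
    obtain ⟨hb, hmem⟩ := hG (hAR _ hh₂ h3)
    have h4 : h' ∈ aE := hh₁ ▸ hmem
    exact haE _ (add_mem hy h4) (RingHom.mem_ker.mp hzK)
  -- the test data
  let Ē := E ⧸ M
  have hMa : a ≤ M.comap (algebraMap A E) := fun r hr =>
    Ideal.mem_comap.mpr (Submodule.mem_sup_left (Ideal.mem_map_of_mem _ hr))
  letI : Algebra (A ⧸ a) Ē :=
    (Ideal.quotientMap M (algebraMap A E) hMa).toAlgebra
  let q : E →+* Ē := Ideal.Quotient.mk M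
  let J' : Ideal Ē := K.map q
  have hJ' : J' ^ 2 = ⊥ := by rw [← Ideal.map_pow, hK2, Ideal.map_bot]
  let qq : E →+* Ē ⧸ J' := (Ideal.Quotient.mk J').comp q
  have hker : RingHom.ker π ≤ RingHom.ker qq := fun e he =>
    Ideal.Quotient.eq_zero_iff_mem.mpr (Ideal.mem_map_of_mem q he)
  let ψ₀ : B →+* Ē ⧸ J' := RingHom.liftOfSurjective π.toRingHom hπ ⟨qq, hker⟩
  have hψ₀ : ∀ e, ψ₀ (π e) = qq e := fun e =>
    RingHom.liftOfRightInverse_comp_apply π.toRingHom _ _ ⟨qq, hker⟩ e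
  have hψA : ∀ r, ψ₀ (algebraMap A B r) = qq (algebraMap A E r) := fun r => by
    rw [← π.commutes]; exact hψ₀ _
  have hψa : ∀ b ∈ a.map (algebraMap A B), ψ₀ b = 0 := fun b hb => by
    refine RingHom.mem_ker.mp ((Ideal.map_le_iff_le_comap.mpr (fun r hr => ?_)) hb)
    rw [Ideal.mem_comap, RingHom.mem_ker, hψA]
    show Ideal.Quotient.mk J' (q (algebraMap A E r)) = 0
    rw [show q (algebraMap A E r) = 0 from Ideal.Quotient.eq_zero_iff_mem.mpr (hMa hr), map_zero]
  let ψ : (B ⧸ a.map (algebraMap A B)) →ₐ[A ⧸ a] Ē ⧸ J' :=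
    { Ideal.Quotient.lift (a.map (algebraMap A B)) ψ₀ hψa with
      commutes' := fun x => by
        obtain ⟨r, rfl⟩ := Ideal.Quotient.mk_surjective x
        exact hψA r }
  have hψc : ∃ n : ℕ, ∀ x ∈ (𝔟.map (Ideal.Quotient.mk (a.map (algebraMap A B)))) ^ n, ψ x = 0 := by
    refine ⟨N, fun x hx => ?_⟩
    rw [← Ideal.map_pow] at hx
    obtain ⟨b, hb, rfl⟩ := (Ideal.mem_map_iff_of_surjective _ Ideal.Quotient.mk_surjective).mp hx
    have hbk : b ∈ 𝔟 ^ k := Ideal.pow_le_pow_right (Nat.le_add_left k k₀) hb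
    show ψ₀ b = 0
    rw [show b = π (σ ⟨b, hbk⟩) from (hσπ ⟨b, hbk⟩).symm, hψ₀]
    show Ideal.Quotient.mk J' (q _) = 0
    have hmem : σ ⟨b, hbk⟩ ∈ M := Submodule.mem_sup_right ⟨(hσπ _).symm ▸ hbk,
      congrArg σ (Subtype.ext (hσπ _)), (hσπ _).symm ▸ hb⟩
    rw [show q (σ ⟨b, hbk⟩) = 0 from Ideal.Quotient.eq_zero_iff_mem.mpr hmem, map_zero]
  obtain ⟨s, hs⟩ := h Ē J' hJ' ψ hψc
  have hex : ∀ b, ∃ e : E, π e = b ∧ q e = s (Ideal.Quotient.mk _ b) := fun b => by
    obtain ⟨e, rfl⟩ := hπ b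
    have h1 : Ideal.Quotient.mk J' (s (Ideal.Quotient.mk _ (π e))) = qq e :=
      (DFunLike.congr_fun hs _).trans (hψ₀ e)
    obtain ⟨j, hj, hj'⟩ := (Ideal.mem_map_iff_of_surjective q Ideal.Quotient.mk_surjective).mp
      (Ideal.Quotient.eq.mp h1)
    refine ⟨e + j, ?_, ?_⟩
    · rw [map_add, RingHom.mem_ker.mp hj, add_zero]
    · rw [map_add, hj', add_sub_cancel]
  choose g hg₁ hg₂ using hex
  have huniq : ∀ e b, π e = b → q e = s (Ideal.Quotient.mk _ b) → e = g b := fun e b h1 h2 => by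
    rw [← sub_eq_zero]
    refine hMK _ (Ideal.Quotient.eq.mp (h2.trans (hg₂ b).symm)) ?_
    rw [RingHom.mem_ker, map_sub, h1, hg₁, sub_self]
  let G' : B →ₐ[A] E :=
    { toFun := g
      map_one' := (huniq 1 1 (map_one _) (by rw [map_one, map_one, map_one])).symm
      map_mul' := fun x y => (huniq _ _ (by rw [map_mul, hg₁, hg₁])
        (by rw [map_mul, hg₂, hg₂, map_mul, map_mul])).symm
      map_zero' := (huniq 0 0 (map_zero _) (by rw [map_zero, map_zero, map_zero])).symm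
      map_add' := fun x y => (huniq _ _ (by rw [map_add, hg₁, hg₁])
        (by rw [map_add, hg₂, hg₂, map_add, map_add])).symm
      commutes' := fun r => (huniq _ _ (π.commutes r) (by
        rw [show Ideal.Quotient.mk (a.map (algebraMap A B)) (algebraMap A B r) =
          algebraMap (A ⧸ a) (B ⧸ a.map (algebraMap A B)) (Ideal.Quotient.mk a r) from rfl,
          s.commutes]
        rfl)).symm }
  exact ⟨G', hg₁⟩

/-- Lifting along a square-zero thickening killed by the base ideal. -/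
theorem exists_lift_of_kill
    (h : CAlgX.IsAdicFormallySmooth (A ⧸ a) (B ⧸ a.map (algebraMap A B))
      (𝔟.map (Ideal.Quotient.mk (a.map (algebraMap A B)))))
    {C : Type u} [CommRing C] [Algebra A C] (J : Ideal C) (hJ : J ^ 2 = ⊥) (u : B →ₐ[A] C ⧸ J)
    (hu : ∃ k : ℕ, ∀ x ∈ 𝔟 ^ k, u x = 0) (haJ : ∀ x ∈ a, ∀ j ∈ J, algebraMap A C x * j = 0) :
    ∃ χ : B →ₐ[A] C, (Ideal.Quotient.mkₐ A J).comp χ = u := by
  classical
  obtain ⟨k, hk⟩ := hu
  let E : Subalgebra A (C × B) := AlgHom.equalizer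
    ((Ideal.Quotient.mkₐ A J).comp (AlgHom.fst A C B)) (u.comp (AlgHom.snd A C B))
  have hE : ∀ e : E, Ideal.Quotient.mk J (e : C × B).1 = u (e : C × B).2 := fun e => e.2
  let π : E →ₐ[A] B := (AlgHom.snd A C B).comp E.val
  have hπ : Function.Surjective π := fun b => by
    obtain ⟨c, hc⟩ := Ideal.Quotient.mk_surjective (u b)
    exact ⟨⟨(c, b), hc⟩, rfl⟩
  let K : Ideal E := RingHom.ker π
  have hK : ∀ e : E, e ∈ K → (e : C × B).1 ∈ J ∧ (e : C × B).2 = 0 := fun e he => by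
    have h2 : (e : C × B).2 = 0 := he
    refine ⟨?_, h2⟩
    rw [← Ideal.Quotient.eq_zero_iff_mem, hE, h2, map_zero]
  have hK2 : K ^ 2 = ⊥ := by
    rw [eq_bot_iff, sq, Ideal.mul_le]
    intro x hx y hy
    rw [Ideal.mem_bot]
    refine Subtype.ext (Prod.ext ?_ ?_)
    · have := Ideal.mul_mem_mul (hK x hx).1 (hK y hy).1
      rw [← sq, hJ, Ideal.mem_bot] at this
      exact this
    · show (x : C × B).2 * (y : C × B).2 = 0
      rw [(hK x hx).2, zero_mul]
  have hu0 : ∀ b ∈ 𝔟 ^ k, Ideal.Quotient.mk J (0 : C) = u b := fun b hb => by rw [map_zero, hk b hb]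
  let σ : ↥(𝔟 ^ k) →+ E :=
    { toFun := fun b => ⟨((0 : C), (b : B)), hu0 b b.2⟩
      map_zero' := rfl
      map_add' := fun x y => Subtype.ext (Prod.ext (add_zero (0 : C)).symm rfl) }
  obtain ⟨G', hG'⟩ := exists_section a 𝔟 h π hπ hK2 (fun x hx m hm => by
      refine Subtype.ext (Prod.ext ?_ ?_)
      · exact haJ x hx _ (hK m hm).1
      · show algebraMap A B x * (m : C × B).2 = 0
        rw [(hK m hm).2, mul_zero])
    k σ (fun b => rfl) (fun e x hx => Subtype.ext (Prod.ext (mul_zero (e : C × B).1) rfl))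
  refine ⟨((AlgHom.fst A C B).comp E.val).comp G', AlgHom.ext fun b => ?_⟩
  show Ideal.Quotient.mk J (G' b : C × B).1 = u b
  rw [hE, show (G' b : C × B).2 = b from hG' b]

/-- Flat and formally smooth modulo an ideal implies formally smooth. -/
theorem isAdicFormallySmooth
    (hab : a.map (algebraMap A B) ≤ 𝔟)
    (h : CAlgX.IsAdicFormallySmooth (A ⧸ a) (B ⧸ a.map (algebraMap A B))
      (𝔟.map (Ideal.Quotient.mk (a.map (algebraMap A B))))) :
    CAlgX.IsAdicFormallySmooth A B 𝔟 := by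
  suffices key : ∀ n : ℕ, ∀ (C : Type u) [CommRing C] [Algebra A C] (J : Ideal C), J ^ 2 = ⊥ →
      ∀ ψ : B →ₐ[A] C ⧸ J, (∃ k : ℕ, ∀ x ∈ 𝔟 ^ k, ψ x = 0) →
      J * (a.map (algebraMap A C)) ^ n = ⊥ →
      ∃ χ : B →ₐ[A] C, (Ideal.Quotient.mkₐ A J).comp χ = ψ by
    intro C _ _ J hJ ψ hψ
    obtain ⟨k, hk⟩ := hψ
    refine key k C J hJ ψ ⟨k, hk⟩ (eq_bot_iff.mpr ?_)
    have h1 : (a.map (algebraMap A C)) ^ k ≤ J := by
      rw [← Ideal.map_pow, Ideal.map_le_iff_le_comap]
      intro r hr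
      rw [Ideal.mem_comap, ← Ideal.Quotient.eq_zero_iff_mem]
      show algebraMap A (C ⧸ J) r = 0
      rw [← ψ.commutes]
      refine hk _ (Ideal.pow_right_mono hab k ?_)
      rw [← Ideal.map_pow]
      exact Ideal.mem_map_of_mem _ hr
    exact (Ideal.mul_mono_right h1).trans (le_of_eq ((sq J).symm.trans hJ))
  intro n
  induction n with
  | zero =>
    intro C _ _ J hJ ψ hψ hn
    rw [pow_zero, Ideal.one_eq_top, Ideal.mul_top] at hn
    exact exists_lift_of_kill a 𝔟 h J hJ ψ hψ fun x _ j hj => by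
      rw [hn, Ideal.mem_bot] at hj; rw [hj, mul_zero]
  | succ n ih =>
    intro C _ _ J hJ ψ hψ hn
    let I := J * (a.map (algebraMap A C)) ^ n
    have hIJ : I ≤ J := Ideal.mul_le_left
    have hI2 : I ^ 2 = ⊥ := eq_bot_iff.mpr ((Ideal.pow_right_mono hIJ 2).trans hJ.le)
    let J' : Ideal (C ⧸ I) := J.map (Ideal.Quotient.mk I)
    obtain ⟨e, he⟩ : ∃ e : ((C ⧸ I) ⧸ J') ≃ₐ[A] C ⧸ J,
        ∀ c : C, e (Ideal.Quotient.mk J' (Ideal.Quotient.mk I c)) = Ideal.Quotient.mk J c :=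
      Basic.exists_comp_factor hIJ ψ
    obtain ⟨k, hk⟩ := hψ
    have hJ'2 : J' ^ 2 = ⊥ := by rw [← Ideal.map_pow, hJ, Ideal.map_bot]
    obtain ⟨v, hv⟩ := ih (C ⧸ I) J' hJ'2 (e.symm.toAlgHom.comp ψ)
      ⟨k, fun x hx => by simp [hk x hx]⟩ (by
        rw [show algebraMap A (C ⧸ I) = (Ideal.Quotient.mk I).comp (algebraMap A C) from rfl,
          ← Ideal.map_map, ← Ideal.map_pow, ← Ideal.map_mul, Ideal.map_quotient_self])
    have hv' : ∀ b, e (Ideal.Quotient.mk J' (v b)) = ψ b := fun b =>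
      (congrArg e (DFunLike.congr_fun hv b)).trans (e.apply_symm_apply _)
    have hvcont : ∃ m : ℕ, ∀ x ∈ 𝔟 ^ m, v x = 0 := by
      refine Basic.continuous_of_mk J' ⟨2, hJ'2⟩ v.toRingHom (k := k) fun x hx => ?_
      rw [← Ideal.Quotient.eq_zero_iff_mem]
      refine e.injective ?_
      rw [map_zero]
      exact (hv' x).trans (hk x hx)
    obtain ⟨χ, hχ⟩ := exists_lift_of_kill a 𝔟 h I hI2 v hvcont fun x hx j hj => by
      have h1 := Ideal.mul_mem_mul (Ideal.mem_map_of_mem (algebraMap A C) hx) hj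
      rw [mul_left_comm, ← pow_succ', hn] at h1
      exact Ideal.mem_bot.mp h1
    exact ⟨χ, AlgHom.ext fun b => (he (χ b)).symm.trans
      ((congrArg (fun z => e (Ideal.Quotient.mk J' z)) (DFunLike.congr_fun hχ b)).trans (hv' b))⟩

end Groth.Agent.FlatLift16.FlatFS
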