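import Groth.Agent.AdicFS.CohenRing
import Groth.Agent.AdicFS.FlatComplete
import Groth.Agent.Nagata.CohenRing
import Groth.Agent.Nagata.Normalization
import Groth.Agent.RegLoc.AdicNoeth
import Groth.Agent.RegLoc.CompleteTrans
import Groth.Agent.LocFlat.Basic
import Groth.Agent.S9444
import Mathlib

/-!
# Flat complete lifts of regular complete local algebras over the residue field (EGA 0_IV 19.7.2)
-/

set_option autoImplicit false
set_option maxHeartbeats 1000000
set_option linter.style.haveILetI false

universe u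

open IsLocalRing
open scoped TensorProduct

namespace Groth.Agent.FlatLift16

/-- A Cohen ring with prescribed residue field, in any characteristic. -/
theorem exists_cohen_package (k : Type u) [Field k] (q : ℕ) [CharP k q] :
    ∃ (W : Type u) (_ : CommRing W) (_ : IsLocalRing W) (_ : IsDomain W) (_ : IsPrincipalIdealRing W)
      (_ : IsNoetherianRing W),
      EGA41.IsCohenRingEGA W ∧ IsAdicComplete (maximalIdeal W) W ∧
      maximalIdeal W = Ideal.span {(q : W)} ∧ (q ≠ 0 → (q : W) ≠ 0) ∧
      ∃ e : W →+* k, Function.Surjective e ∧ RingHom.ker e = maximalIdeal W := by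
  rcases CharP.char_is_prime_or_zero k q with hq | hq
  · haveI := Fact.mk hq
    obtain ⟨Λ, _, _, hΛ, ⟨e⟩⟩ := Nagata.CohenRing.exists_cohenRing q k
    obtain ⟨hd, hdvr, hc, p, hp, hm⟩ := id hΛ
    haveI := hd
    haveI := hdvr
    have hker : RingHom.ker (e.toRingHom.comp (residue Λ)) = maximalIdeal Λ := by
      rw [RingHom.ker_equiv_comp, IsLocalRing.ker_residue]
    have hpq : p = q := by
      have h1 : (e.toRingHom.comp (residue Λ)) (p : Λ) = 0 := by
        rw [← RingHom.mem_ker, hker, hm]; exact Ideal.mem_span_singleton_self _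
      rw [map_natCast, CharP.cast_eq_zero_iff k q] at h1
      exact ((Nat.prime_dvd_prime_iff_eq hq hp).mp h1).symm
    subst hpq
    refine ⟨Λ, inferInstance, inferInstance, hd, inferInstance, inferInstance, Or.inr hΛ, hc, hm, ?_,
      e.toRingHom.comp (residue Λ), e.surjective.comp residue_surjective, hker⟩
    intro _ h0
    apply IsDiscreteValuationRing.not_a_field Λ
    rw [hm, h0, Ideal.span_singleton_eq_bot]
  · subst hq
    haveI : CharZero k := CharP.charP_to_charZero k
    refine ⟨k, inferInstance, inferInstance, inferInstance, inferInstance, inferInstance,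
      Or.inl ⟨Field.toIsField k, inferInstance⟩, ?_, ?_, fun h => absurd rfl h, RingHom.id k,
      Function.surjective_id, ?_⟩
    · rw [IsLocalRing.isField_iff_maximalIdeal_eq.mp (Field.toIsField k)]
      infer_instance
    · rw [IsLocalRing.isField_iff_maximalIdeal_eq.mp (Field.toIsField k), Nat.cast_zero,
        Ideal.span_singleton_eq_bot.mpr rfl]
    · rw [IsLocalRing.isField_iff_maximalIdeal_eq.mp (Field.toIsField k)]
      exact (RingHom.injective_iff_ker_eq_bot _).mp Function.injective_id

/-- The flat power series lift of a complete regular local algebra over the residue field of a Cohen ring. -/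
theorem exists_flat_cover {k W : Type u} [Field k] [CommRing W] [IsLocalRing W] [IsDomain W]
    [IsPrincipalIdealRing W] (hW : EGA41.IsCohenRingEGA W) (q : ℕ) [CharP k q]
    (hm : maximalIdeal W = Ideal.span {(q : W)}) (e : W →+* k) (he : RingHom.ker e = maximalIdeal W)
    (B₀ : Type u) [CommRing B₀] [IsRegularLocalRing B₀] [IsAdicComplete (maximalIdeal B₀) B₀]
    [Algebra k B₀] :
    ∃ (L : Type u) (_ : CommRing L) (v : W →+* L) (ψ : L →+* B₀),
      v.Flat ∧ Function.Surjective ψ ∧ RingHom.ker ψ = Ideal.span {(q : L)} ∧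
      ψ.comp v = (algebraMap k B₀).comp e := by
  let K := ResidueField B₀
  haveI : CharP (ResidueField B₀) q :=
    charP_of_injective_ringHom ((residue B₀).comp (algebraMap k B₀)).injective q
  obtain ⟨d, ⟨e₀⟩⟩ := S9444.result B₀ k
  obtain ⟨W', _, _, _, _, _, hW', hc', hm', hq', e', he's, he'k⟩ := exists_cohen_package K q
  let L := MvPowerSeries (Fin d) W'
  haveI : IsAdicComplete (maximalIdeal L) L := Nagata.Normalization.isAdicComplete_maximalIdeal hm' d
  let ψ : L →+* B₀ := e₀.symm.toRingHom.comp (MvPowerSeries.map e')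
  have hψs : Function.Surjective ψ := by
    refine e₀.symm.surjective.comp fun f => ?_
    let g : L := fun n => Function.surjInv he's (MvPowerSeries.coeff n f)
    refine ⟨g, MvPowerSeries.ext fun n => ?_⟩
    rw [MvPowerSeries.coeff_map]
    exact Function.surjInv_eq he's _
  have hψk : RingHom.ker ψ = Ideal.span {(q : L)} := by
    refine le_antisymm (fun f hf => ?_) ?_
    · have h1 : MvPowerSeries.map e' f = 0 :=
        e₀.symm.injective ((RingHom.mem_ker.mp hf : e₀.symm (MvPowerSeries.map e' f) = 0).trans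
          (map_zero _).symm)
      have h2 : ∀ n, MvPowerSeries.coeff n f ∈ Ideal.span {(q : W')} := fun n => by
        rw [← hm', ← he'k, RingHom.mem_ker, ← MvPowerSeries.coeff_map, h1, map_zero]
      choose g hg using fun n => Ideal.mem_span_singleton'.mp (h2 n)
      let G : L := g
      refine Ideal.mem_span_singleton'.mpr ⟨G, MvPowerSeries.ext fun n => ?_⟩
      rw [← map_natCast (MvPowerSeries.C : W' →+* L) q, MvPowerSeries.coeff_mul_C]
      exact hg n
    · rw [Ideal.span_singleton_le_iff_mem, RingHom.mem_ker, map_natCast]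
      rw [← map_natCast (algebraMap k B₀) q, CharP.cast_eq_zero, map_zero]
  haveI : IsNoetherianRing L := inferInstance
  haveI : IsDomain L := NoZeroDivisors.to_isDomain _
  -- lift `W → k → B₀`
  let θ : L ⧸ RingHom.ker ψ ≃+* B₀ := RingHom.quotientKerEquivOfSurjective hψs
  haveI : Nontrivial (L ⧸ RingHom.ker ψ) := θ.toEquiv.nontrivial
  haveI : IsLocalRing (L ⧸ RingHom.ker ψ) :=
    IsLocalRing.of_surjective' _ Ideal.Quotient.mk_surjective
  let u : W →+* L ⧸ RingHom.ker ψ := θ.symm.toRingHom.comp ((algebraMap k B₀).comp e)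
  haveI : IsLocalHom u := ⟨fun w hw => by
    by_contra hn
    have h0 : e w = 0 := by rw [← RingHom.mem_ker, he]; exact hn
    have : u w = 0 := by simp [u, h0]
    exact not_isUnit_zero (this ▸ hw)⟩
  obtain ⟨v, hvl, hv⟩ := AdicFS.CohenRing.exists_lift_of_noetherian hW (RingHom.ker ψ)
    (RingHom.ker_ne_top ψ) u
  refine ⟨L, inferInstance, v, ψ, ?_, hψs, hψk, RingHom.ext fun w => ?_⟩
  · algebraize [v]
    have hinj : Function.Injective v := by
      rw [RingHom.injective_iff_ker_eq_bot]
      by_contra hne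
      haveI : (RingHom.ker v).IsPrime := RingHom.ker_isPrime v
      have hmax := IsPrime.to_maximal_ideal hne
      have h1 : (q : W) ∈ RingHom.ker v := by
        rw [IsLocalRing.eq_maximalIdeal hmax, hm]; exact Ideal.mem_span_singleton_self _
      rw [RingHom.mem_ker, map_natCast] at h1
      by_cases hq0 : q = 0
      · apply hne
        rw [IsLocalRing.eq_maximalIdeal hmax, hm, hq0, Nat.cast_zero, Ideal.span_singleton_eq_bot]
      · refine hq' hq0 ?_
        have := congrArg (MvPowerSeries.constantCoeff : L →+* W') h1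
        rwa [map_natCast, map_zero] at this
    haveI : FaithfulSMul W L := (faithfulSMul_iff_algebraMap_injective W L).mpr hinj
    show Module.Flat W L
    exact Module.Flat.flat_iff_torsion_eq_bot_of_isBezout.mpr (by
      rw [eq_bot_iff]
      rintro x ⟨⟨a, ha⟩, hax⟩
      have h2 : algebraMap W L a * x = 0 := by rw [← Algebra.smul_def]; exact hax
      rcases mul_eq_zero.mp h2 with h | h
      · exact absurd ((map_eq_zero_iff _ hinj).mp h) (nonZeroDivisors.ne_zero ha)
      · exact h)
  · have h1 := congrArg θ (RingHom.congr_fun hv w)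
    simp only [u, RingHom.coe_comp, Function.comp_apply, RingEquiv.toRingHom_eq_coe,
      RingEquiv.coe_toRingHom, RingEquiv.apply_symm_apply] at h1
    simpa [θ] using h1

/-- Completing a flat algebra with Noetherian local complete closed fibre. -/
theorem exists_completion {C T B₀ : Type u} [CommRing C] [IsLocalRing C] [IsNoetherianRing C]
    [CommRing T] [Algebra C T] [Module.Flat C T] [CommRing B₀] [IsLocalRing B₀] [IsNoetherianRing B₀]
    [IsAdicComplete (maximalIdeal B₀) B₀] (π : T →+* B₀) (hπs : Function.Surjective π)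
    (hπk : RingHom.ker π = (maximalIdeal C).map (algebraMap C T)) :
    ∃ (B : Type u) (_ : CommRing B) (_ : IsLocalRing B) (_ : IsNoetherianRing B) (_ : Algebra C B)
      (ρ : B →+* B₀) (j : T →ₐ[C] B),
      IsAdicComplete (maximalIdeal B) B ∧ Module.Flat C B ∧ Function.Surjective ρ ∧
      RingHom.ker ρ = (maximalIdeal C).map (algebraMap C B) ∧
      (∀ c : C, ρ (algebraMap C B c) = π (algebraMap C T c)) ∧ ∀ t, ρ (j t) = π t := by
  let I : Ideal T := (maximalIdeal C).map (algebraMap C T)
  have hIfg : I.FG := Ideal.FG.map (IsNoetherian.noetherian (maximalIdeal C)) _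
  let e : (T ⧸ I) ≃+* B₀ :=
    (Ideal.quotEquivOfEq hπk.symm).trans (RingHom.quotientKerEquivOfSurjective hπs)
  haveI : IsNoetherianRing (T ⧸ I) := isNoetherianRing_of_ringEquiv _ e.symm
  let B := AdicCompletion I T
  haveI : IsNoetherianRing B := RegLoc.AdicNoeth.isNoetherianRing_adicCompletion I hIfg
  haveI hIc : IsAdicComplete (I.map (algebraMap T B)) B := AdicCompletion.isAdicComplete_self I hIfg
  let ρ : B →+* B₀ := e.toRingHom.comp (AdicCompletion.evalOneₐ I).toRingHom
  have hρs : Function.Surjective ρ := e.surjective.comp (AdicCompletion.evalOneₐ_surjective I)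
  have hρk : RingHom.ker ρ = I.map (algebraMap T B) := by
    rw [← AdicCompletion.ker_evalOneₐ_eq_map I hIfg, RingHom.ker_equiv_comp]
  have hρof : ∀ t, ρ (algebraMap T B t) = π t := fun t => by
    show e (AdicCompletion.evalOneₐ I (algebraMap T B t)) = π t
    rw [AlgHom.commutes]
    rfl
  haveI : IsLocalHom ρ := ⟨fun b hb => by
    obtain ⟨y, hy⟩ := hb.exists_right_inv
    obtain ⟨c, rfl⟩ := hρs y
    have h1 : b * c - 1 ∈ I.map (algebraMap T B) := by
      rw [← hρk, RingHom.mem_ker, map_sub, map_mul, hy, map_one, sub_self]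
    have h2 := Ideal.mem_jacobson_bot.mp (IsAdicComplete.le_jacobson_bot _ h1) 1
    rw [mul_one, sub_add_cancel] at h2
    exact isUnit_of_mul_isUnit_left h2⟩
  haveI : IsLocalRing B := RingHom.domain_isLocalRing ρ
  haveI hBc : IsAdicComplete (maximalIdeal B) B := by
    let e' : (B ⧸ I.map (algebraMap T B)) ≃+* B₀ :=
      (Ideal.quotEquivOfEq hρk.symm).trans (RingHom.quotientKerEquivOfSurjective hρs)
    have h1 : ((maximalIdeal B).map (Ideal.Quotient.mk (I.map (algebraMap T B)))).map e' =
        maximalIdeal B₀ := by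
      show ((maximalIdeal B).map (Ideal.Quotient.mk (I.map (algebraMap T B)))).map e'.toRingHom = _
      rw [Ideal.map_map]
      exact IsLocalRing.map_maximalIdeal_of_surjective ρ hρs
    haveI : IsAdicComplete ((maximalIdeal B).map (Ideal.Quotient.mk (I.map (algebraMap T B))))
        (B ⧸ I.map (algebraMap T B)) := by
      rw [← IsAdicComplete.congr_ringEquiv _ e', h1]
      infer_instance
    exact RegLoc.CompleteTrans.isAdicComplete (I.map (algebraMap T B)) (maximalIdeal B)
  haveI : IsScalarTower C T B := inferInstance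
  have hmap : ∀ J : Ideal C, J.map (algebraMap C B) = (J.map (algebraMap C T)).map (algebraMap T B) :=
    fun J => by rw [Ideal.map_map, ← IsScalarTower.algebraMap_eq]
  have hρc : ∀ c, ρ (algebraMap C B c) = π (algebraMap C T c) := fun c => by
    rw [IsScalarTower.algebraMap_apply C T B]; exact hρof _
  refine ⟨B, inferInstance, inferInstance, inferInstance, inferInstance, ρ,
    IsScalarTower.toAlgHom C T B, hBc, ?_, hρs, by rw [hρk, hmap], hρc, hρof⟩
  refine LocFlat.flat_of_forall_pow (S := B) B (maximalIdeal C)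
    (by rw [hmap]; exact IsAdicComplete.le_jacobson_bot _) fun n X Y _ _ _ _ a ha hY => ?_
  have hX : ∀ c ∈ maximalIdeal C ^ n, ∀ x : X, c • x = 0 := fun c hc x => ha (by
    rw [map_smul, map_zero]
    have := Submodule.smul_mem_smul hc (Submodule.mem_top (x := a x))
    rwa [hY, Submodule.mem_bot] at this)
  let g : T →ₗ[C] B := (IsScalarTower.toAlgHom C T B).toLinearMap
  have hmemB : ∀ b : B, b ∈ (maximalIdeal C ^ n • ⊤ : Submodule C B) ↔
      AdicCompletion.eval I T n b = 0 := fun b => by
    rw [Ideal.smul_top_eq_map, Submodule.restrictScalars_mem, hmap, Ideal.map_pow]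
    rw [← Submodule.restrictScalars_mem T, ← Ideal.smul_top_eq_map,
      AdicCompletion.pow_smul_top_eq_ker_eval hIfg, LinearMap.mem_ker]
  have hsurj : ∀ b : B, ∃ t : T, b - g t ∈ (maximalIdeal C ^ n • ⊤ : Submodule C B) := fun b => by
    obtain ⟨t, ht⟩ := Submodule.Quotient.mk_surjective _ (AdicCompletion.eval I T n b)
    refine ⟨t, (hmemB _).mpr ?_⟩
    rw [map_sub, ← ht, sub_eq_zero]
    rfl
  have hinj : ∀ t : T, g t ∈ (maximalIdeal C ^ n • ⊤ : Submodule C B) →
      t ∈ (maximalIdeal C ^ n • ⊤ : Submodule C T) := fun t ht => by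
    have h1 : (Submodule.Quotient.mk t : T ⧸ (I ^ n • ⊤ : Submodule T T)) = 0 := (hmemB _).mp ht
    rw [Submodule.Quotient.mk_eq_zero, smul_eq_mul, Ideal.mul_top] at h1
    rw [Ideal.smul_top_eq_map, Submodule.restrictScalars_mem, Ideal.map_pow]
    exact h1
  have hsG : Function.Surjective (g.lTensor X) := by
    intro z
    induction z with
    | zero => exact ⟨0, map_zero _⟩
    | add z w hz hw =>
      obtain ⟨z', rfl⟩ := hz
      obtain ⟨w', rfl⟩ := hw
      exact ⟨z' + w', map_add _ _ _⟩
    | tmul x b =>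
      obtain ⟨t, ht⟩ := hsurj b
      refine ⟨x ⊗ₜ t, ?_⟩
      rw [LinearMap.lTensor_tmul]
      refine (sub_eq_zero.mp ?_).symm
      rw [← TensorProduct.tmul_sub]
      refine Submodule.smul_induction_on (p := fun y => x ⊗ₜ[C] y = 0) ht (fun c hc y _ => ?_)
        (fun y y' hy hy' => by rw [TensorProduct.tmul_add, hy, hy', add_zero])
      rw [← TensorProduct.smul_tmul, hX c hc x, TensorProduct.zero_tmul]
  have hiY : Function.Injective (g.lTensor Y) :=
    AdicFS.FlatComplete.lTensor_injective_of_bijective_mod g hsurj hinj Y fun c hc y => by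
      have := Submodule.smul_mem_smul hc (Submodule.mem_top (x := y))
      rwa [hY, Submodule.mem_bot] at this
  have haT : Function.Injective (a.rTensor T) :=
    Module.Flat.rTensor_preserves_injective_linearMap a ha
  intro z w hzw
  obtain ⟨z, rfl⟩ := hsG z
  obtain ⟨w, rfl⟩ := hsG w
  refine congrArg _ (haT (hiY ?_))
  simpa only [← LinearMap.comp_apply, LinearMap.lTensor_comp_rTensor,
    LinearMap.rTensor_comp_lTensor] using hzw

/-- EGA 0_IV (19.7.2): flat complete lifts of complete regular local algebras over the residue field. -/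
theorem exists_flat_lift {A : Type u} [CommRing A] [IsLocalRing A] [IsNoetherianRing A]
    (B₀ : Type u) [CommRing B₀] [IsRegularLocalRing B₀] [IsAdicComplete (maximalIdeal B₀) B₀]
    [Algebra (ResidueField A) B₀] :
    ∃ (B : Type u) (_ : CommRing B) (_ : IsLocalRing B) (_ : IsNoetherianRing B) (_ : Algebra A B)
      (_ : IsLocalHom (algebraMap A B)),
      IsAdicComplete (maximalIdeal B) B ∧ Module.Flat A B ∧
        Nonempty (ResidueField A ⊗[A] B ≃ₐ[ResidueField A] B₀) := by
  let k := ResidueField A
  let q := ringChar k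
  obtain ⟨W, _, _, _, _, _, hW, hWc, hm, hq, e, hes, hek⟩ := exists_cohen_package k q
  obtain ⟨L, _, v, ψ, hvflat, hψs, hψk, hψv⟩ := exists_flat_cover hW q hm e hek B₀
  let C := AdicCompletion (maximalIdeal A) A
  let ec : k ≃+* ResidueField C :=
    RingEquiv.ofBijective _ (AdicCompletion.residueField_map_bijective (R := A))
  haveI : IsNoetherianRing C := RegLoc.AdicNoeth.isNoetherianRing_adicCompletion _ (IsNoetherian.noetherian _)
  let u : W →+* C ⧸ maximalIdeal C := ec.toRingHom.comp e
  haveI : IsLocalHom u := ⟨fun w hw => by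
    by_contra hn
    have h0 : e w = 0 := by rw [← RingHom.mem_ker, hek]; exact hn
    have h1 : u w = 0 := (congrArg ec h0).trans (map_zero ec)
    rw [h1] at hw
    exact not_isUnit_zero hw⟩
  haveI : IsLocalRing (C ⧸ maximalIdeal C) := inferInstanceAs (IsLocalRing (ResidueField C))
  obtain ⟨w, -, hw⟩ := AdicFS.CohenRing.exists_lift_of_noetherian hW (maximalIdeal C)
    (maximalIdeal.isMaximal C).ne_top u
  let χ : C →+* B₀ := (algebraMap k B₀).comp (ec.symm.toRingHom.comp (residue C))
  algebraize [w, v]
  letI : Algebra W B₀ := ((algebraMap k B₀).comp e).toAlgebra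
  have hχw : ∀ x, χ (algebraMap W C x) = algebraMap W B₀ x := fun x => by
    show algebraMap k B₀ (ec.symm (residue C (w x))) = algebraMap k B₀ (e x)
    rw [show residue C (w x) = ec (e x) from RingHom.congr_fun hw x, RingEquiv.symm_apply_apply]
  let χa : C →ₐ[W] B₀ := { χ with commutes' := hχw }
  let ψa : L →ₐ[W] B₀ := { ψ with commutes' := fun x => RingHom.congr_fun hψv x }
  let π : (C ⊗[W] L) →ₐ[W] B₀ := Algebra.TensorProduct.lift χa ψa fun _ _ => Commute.all _ _
  have hπl : ∀ c, π (algebraMap C (C ⊗[W] L) c) = χ c := fun c => by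
    show π (c ⊗ₜ 1) = χ c
    rw [Algebra.TensorProduct.lift_tmul, map_one, mul_one]
    rfl
  have hπs : Function.Surjective π := fun b => by
    obtain ⟨l, rfl⟩ := hψs b
    refine ⟨1 ⊗ₜ l, ?_⟩
    rw [Algebra.TensorProduct.lift_tmul, map_one, one_mul]
    rfl
  let I : Ideal (C ⊗[W] L) := (maximalIdeal C).map (algebraMap C (C ⊗[W] L))
  have hIm : ∀ c ∈ maximalIdeal C, ∀ l : L, c ⊗ₜ[W] l ∈ I := fun c hc l => by
    rw [show c ⊗ₜ[W] l = algebraMap C (C ⊗[W] L) c * (1 ⊗ₜ l) by
      rw [Algebra.TensorProduct.algebraMap_apply, Algebra.TensorProduct.tmul_mul_tmul, one_mul]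
      simp]
    exact Ideal.mul_mem_right _ _ (Ideal.mem_map_of_mem _ hc)
  have hred : ∀ t, ∃ l : L, t - 1 ⊗ₜ l ∈ I := fun t => by
    induction t with
    | zero => exact ⟨0, by rw [TensorProduct.tmul_zero, sub_zero]; exact zero_mem _⟩
    | add t t' ht ht' =>
      obtain ⟨l, hl⟩ := ht
      obtain ⟨l', hl'⟩ := ht'
      exact ⟨l + l', by rw [TensorProduct.tmul_add, add_sub_add_comm]; exact add_mem hl hl'⟩
    | tmul c l =>
      obtain ⟨x, hx⟩ := hes (ec.symm (residue C c))
      refine ⟨x • l, ?_⟩
      rw [← TensorProduct.smul_tmul, ← TensorProduct.sub_tmul]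
      refine hIm _ ?_ l
      rw [← residue_eq_zero_iff, map_sub, sub_eq_zero, Algebra.smul_def, mul_one]
      show residue C c = residue C (w x)
      rw [show residue C (w x) = ec (e x) from RingHom.congr_fun hw x, hx, RingEquiv.apply_symm_apply]
  have hπI : I ≤ RingHom.ker π := Ideal.map_le_iff_le_comap.mpr fun c hc => by
    rw [Ideal.mem_comap, RingHom.mem_ker, hπl]
    show algebraMap k B₀ (ec.symm (residue C c)) = 0
    rw [(residue_eq_zero_iff c).mpr hc, map_zero, map_zero]
  have hπk : RingHom.ker π = I := by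
    refine le_antisymm (fun t ht => ?_) hπI
    obtain ⟨l, hl⟩ := hred t
    have h1 : l ∈ RingHom.ker ψ := by
      have h2 := hπI hl
      rw [RingHom.mem_ker, map_sub, RingHom.mem_ker.mp ht, zero_sub, neg_eq_zero,
        Algebra.TensorProduct.lift_tmul, map_one, one_mul] at h2
      exact h2
    rw [hψk, Ideal.mem_span_singleton'] at h1
    obtain ⟨l', rfl⟩ := h1
    have h3 : (1 : C) ⊗ₜ[W] (l' * (q : L)) ∈ I := by
      rw [← map_natCast (algebraMap W L) q, mul_comm, ← Algebra.smul_def, ← TensorProduct.smul_tmul]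
      refine hIm _ ?_ l'
      rw [Algebra.smul_def, mul_one, ← residue_eq_zero_iff]
      show residue C (w q) = 0
      rw [show residue C (w q) = ec (e q) from RingHom.congr_fun hw q]
      have : e (q : W) = 0 := by
        rw [← RingHom.mem_ker, hek, hm]; exact Ideal.mem_span_singleton_self _
      rw [this, map_zero]
    simpa using add_mem hl h3
  obtain ⟨B, _, _, _, _, ρ, -, hBc, hflat, hρs, hρk, hρc, -⟩ :=
    exists_completion (C := C) π.toRingHom hπs hπk
  letI : Algebra A B := ((algebraMap C B).comp (algebraMap A C)).toAlgebra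
  haveI : IsScalarTower A C B := .of_algebraMap_eq' rfl
  haveI : Module.Flat A C := AdicCompletion.flat_of_isNoetherian _
  haveI : Module.Flat A B := Module.Flat.trans A C B
  have hmapm : (maximalIdeal A).map (algebraMap A B) = RingHom.ker ρ := by
    rw [hρk, AdicCompletion.maximalIdeal_eq_map, Ideal.map_map]
    rfl
  haveI : IsLocalHom (algebraMap A B) := by
    refine ((IsLocalRing.local_hom_TFAE _).out 0 2).mpr ?_
    rw [hmapm]
    exact le_maximalIdeal (RingHom.ker_ne_top ρ)
  refine ⟨B, inferInstance, inferInstance, inferInstance, inferInstance, inferInstance, hBc,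
    inferInstance, ?_⟩
  letI : Algebra A B₀ := ((algebraMap k B₀).comp (residue A)).toAlgebra
  haveI : IsScalarTower A k B₀ := .of_algebraMap_eq' rfl
  have hρA : ∀ a, ρ (algebraMap A B a) = algebraMap A B₀ a := fun a => by
    show ρ (algebraMap C B (algebraMap A C a)) = algebraMap k B₀ (residue A a)
    rw [hρc]
    show π (algebraMap C (C ⊗[W] L) (algebraMap A C a)) = _
    rw [hπl]
    show algebraMap k B₀ (ec.symm (residue C (algebraMap A C a))) = _
    rw [show residue C (algebraMap A C a) = ec (residue A a) from rfl, RingEquiv.symm_apply_apply]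
  let ρa : B →ₐ[A] B₀ := { ρ with commutes' := hρA }
  let Φ : (k ⊗[A] B) →ₐ[k] B₀ :=
    Algebra.TensorProduct.lift (Algebra.ofId k B₀) ρa fun _ _ => Commute.all _ _
  have hgen : ∀ z : k ⊗[A] B, ∃ b : B, z = 1 ⊗ₜ b := fun z => by
    induction z with
    | zero => exact ⟨0, (TensorProduct.tmul_zero _ _).symm⟩
    | add z z' hz hz' =>
      obtain ⟨b, rfl⟩ := hz
      obtain ⟨b', rfl⟩ := hz'
      exact ⟨b + b', (TensorProduct.tmul_add _ _ _).symm⟩
    | tmul x b =>
      obtain ⟨a, rfl⟩ := residue_surjective x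
      refine ⟨a • b, ?_⟩
      rw [← TensorProduct.smul_tmul, Algebra.smul_def, mul_one]
      rfl
  have hΦ : ∀ b, Φ (1 ⊗ₜ b) = ρ b := fun b => by
    rw [Algebra.TensorProduct.lift_tmul, map_one, one_mul]; rfl
  refine ⟨AlgEquiv.ofBijective Φ ⟨(injective_iff_map_eq_zero _).mpr fun z hz => ?_, fun b₀ => ?_⟩⟩
  · obtain ⟨b, rfl⟩ := hgen z
    rw [hΦ, ← RingHom.mem_ker, ← hmapm] at hz
    rw [← Submodule.restrictScalars_mem A, ← Ideal.smul_top_eq_map] at hz
    refine Submodule.smul_induction_on (p := fun y => (1 : k) ⊗ₜ[A] y = 0) hz (fun a ha y _ => ?_)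
      (fun y y' hy hy' => by rw [TensorProduct.tmul_add, hy, hy', add_zero])
    rw [← TensorProduct.smul_tmul, Algebra.smul_def, mul_one,
      show algebraMap A k a = 0 from (residue_eq_zero_iff a).mpr ha, TensorProduct.zero_tmul]
  · obtain ⟨b, rfl⟩ := hρs b₀
    exact ⟨1 ⊗ₜ b, hΦ b⟩

end Groth.Agent.FlatLift16
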