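import Groth.Agent.FlatLift16.FlatFS
import Groth.Agent.AdicFS.LiftComplete
import Groth.Agent.RegLoc.CompleteTrans
import Groth.Agent.S4515
import Mathlib

/-!
# Comparison of flat complete lifts
-/

set_option autoImplicit false
set_option maxHeartbeats 1000000
set_option linter.style.haveILetI false

universe u

open IsLocalRing

namespace Groth.Agent.FlatLift16.Unique

theorem isAdicComplete_map {A P : Type u} [CommRing A] [CommRing P] [IsLocalRing P] [IsNoetherianRing P]
    [Algebra A P] [IsAdicComplete (maximalIdeal P) P] {J : Ideal A}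
    (hJ : J.map (algebraMap A P) ≤ maximalIdeal P) : IsAdicComplete J P := by
  haveI : IsAdicComplete (J.map (algebraMap A P)) P := RegLoc.CompleteTrans.isAdicComplete_of_le hJ
  exact (IsAdicComplete.map_algebraMap_iff (I := J) (S := P) (M := P)).mp inferInstance

/-- A formally smooth complete algebra and a flat complete algebra which agree modulo `J` are isomorphic
compatibly. -/
theorem exists_equiv {A P Q P₀ : Type u} [CommRing A] [IsLocalRing A] [CommRing P] [IsLocalRing P]
    [IsNoetherianRing P] [Algebra A P] [IsLocalHom (algebraMap A P)] [IsAdicComplete (maximalIdeal P) P]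
    [CommRing Q] [IsLocalRing Q] [IsNoetherianRing Q] [Algebra A Q] [IsLocalHom (algebraMap A Q)]
    [IsAdicComplete (maximalIdeal Q) Q] [Module.Flat A Q] [CommRing P₀] [Algebra A P₀]
    (hP : CAlgX.IsAdicFormallySmooth A P (maximalIdeal P)) (J : Ideal A) (hJ : J ≤ maximalIdeal A)
    (ρP : P →ₐ[A] P₀) (hρP : Function.Surjective ρP) (hkP : RingHom.ker ρP = J.map (algebraMap A P))
    (ρQ : Q →ₐ[A] P₀) (hρQ : Function.Surjective ρQ) (hkQ : RingHom.ker ρQ = J.map (algebraMap A Q)) :
    ∃ v : P ≃ₐ[A] Q, ∀ p, ρQ (v p) = ρP p := by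
  have hJP : J.map (algebraMap A P) ≤ maximalIdeal P :=
    (Ideal.map_mono hJ).trans (((IsLocalRing.local_hom_TFAE _).out 0 2).mp
      (inferInstance : IsLocalHom (algebraMap A P)))
  have hmQ : (maximalIdeal A).map (algebraMap A Q) ≤ maximalIdeal Q :=
    ((IsLocalRing.local_hom_TFAE _).out 0 2).mp (inferInstance : IsLocalHom (algebraMap A Q))
  have hJQ : J.map (algebraMap A Q) ≤ maximalIdeal Q := (Ideal.map_mono hJ).trans hmQ
  let J' : Ideal Q := RingHom.ker ρQ
  have hJ' : J' ≤ maximalIdeal Q := hkQ.le.trans hJQ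
  let θ : (Q ⧸ J') ≃ₐ[A] P₀ := Ideal.quotientKerAlgEquivOfSurjective hρQ
  let u : P →ₐ[A] Q ⧸ J' := θ.symm.toAlgHom.comp ρP
  have hθ : ∀ c, θ (Ideal.Quotient.mk J' c) = ρQ c := fun c => rfl
  haveI : IsHausdorff ((maximalIdeal Q).map (Ideal.Quotient.mk J')) (Q ⧸ J') :=
    IsHausdorff.of_le_jacobson _ _ (by
      haveI : Nontrivial (Q ⧸ J') :=
        Ideal.Quotient.nontrivial_iff.mpr fun e => (maximalIdeal.isMaximal Q).ne_top (top_le_iff.mp (e ▸ hJ'))
      haveI : IsLocalRing (Q ⧸ J') := IsLocalRing.of_surjective' _ Ideal.Quotient.mk_surjective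
      rw [IsLocalRing.jacobson_eq_maximalIdeal ⊥ bot_ne_top,
        IsLocalRing.map_maximalIdeal_of_surjective _ Ideal.Quotient.mk_surjective])
  have hu : ∀ p ∈ maximalIdeal P, u p ∈ (maximalIdeal Q).map (Ideal.Quotient.mk J') := fun p hp => by
    obtain ⟨c, hc⟩ := Ideal.Quotient.mk_surjective (u p)
    rw [← hc]
    refine Ideal.mem_map_of_mem _ fun hcu => ?_
    have h1 : IsUnit (ρP p) := by
      rw [← θ.apply_symm_apply (ρP p), show θ.symm (ρP p) = u p from rfl, ← hc, hθ]
      exact hcu.map ρQ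
    obtain ⟨y, hy⟩ := h1.exists_right_inv
    obtain ⟨y, rfl⟩ := hρP y
    have h2 : p * y - 1 ∈ maximalIdeal P := hJP (hkP.le (by
      rw [RingHom.mem_ker, map_sub, map_mul, hy, map_one, sub_self]))
    have h3 := sub_mem (Ideal.mul_mem_right y _ hp) h2
    rw [sub_sub_cancel] at h3
    exact (maximalIdeal.isMaximal P).ne_top ((Ideal.eq_top_iff_one _).mpr h3)
  obtain ⟨v, -, hv⟩ := AdicFS.LiftComplete.exists_lift
    ((AdicFS.Basic.isFormallySmoothAdic_maximalIdeal_iff).mpr hP) (maximalIdeal Q)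
    ⟨1, by rw [pow_one]; exact hmQ⟩ J' ⟨1, by rw [pow_one]; exact hJ'⟩ u
    ⟨1, by rw [pow_one]; exact Ideal.map_le_iff_le_comap.mpr hu⟩
  have hρv : ∀ p, ρQ (v p) = ρP p := fun p => by
    rw [← hθ, show Ideal.Quotient.mk J' (v p) = u p from DFunLike.congr_fun hv p]
    exact θ.apply_symm_apply _
  haveI := isAdicComplete_map (P := P) hJP
  haveI := isAdicComplete_map (P := Q) hJQ
  have hbij : Function.Bijective v.toLinearMap := by
    refine Groth.Agent.S4515.result J v.toLinearMap (fun q => ?_) (fun p hp => ?_)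
    · obtain ⟨p, hp⟩ := hρP (ρQ q)
      refine ⟨p, ?_⟩
      rw [Ideal.smul_top_eq_map, Submodule.restrictScalars_mem, ← hkQ, RingHom.mem_ker, map_sub]
      show ρQ q - ρQ (v p) = 0
      rw [hρv, hp, sub_self]
    · rw [Ideal.smul_top_eq_map, Submodule.restrictScalars_mem, ← hkQ, RingHom.mem_ker] at hp
      rw [Ideal.smul_top_eq_map, Submodule.restrictScalars_mem, ← hkP, RingHom.mem_ker, ← hρv]
      exact hp
  exact ⟨AlgEquiv.ofBijective v hbij, hρv⟩

end Groth.Agent.FlatLift16.Unique
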